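import Groth.Agent.SkySumLib.MaxMain
import Groth.Agent.EtNilUnitLib.Acyclic
import Groth.Agent.EtNilUnitLib.Small
import Groth.Agent.EpsLib.Cartan
import Groth.Agent.AlgSpLib.ReducedSmooth

/-!
# The kernel of `G_m → ∏ x_* G_m` over maximal points
-/

set_option autoImplicit false
set_option linter.unusedSectionVars false
set_option linter.style.haveILetI false
set_option backward.isDefEq.respectTransparency false
set_option backward.isDefEq.respectTransparency.types false
set_option synthInstance.maxHeartbeats 400000
set_option maxHeartbeats 1000000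

universe u

open CategoryTheory CategoryTheory.Limits CategoryTheory.Abelian AlgebraicGeometry Opposite
open Groth.Agent.EtShLib MuConstLib SkySumLib

noncomputable section

namespace GmTorsLib

variable (X : Scheme.{u}) [IsNoetherian X]

theorem ker_seq_shortExact {F G : EtCoh.Ab X} (φ : F ⟶ G) :
    (ShortComplex.mk (kernel.ι φ) (Abelian.factorThruImage φ)
      ((cancel_mono (Abelian.image.ι φ)).1 (by rw [Category.assoc, Abelian.image.fac, kernel.condition, zero_comp]))).ShortExact :=
  { exact := by
      refine ShortComplex.exact_of_f_is_kernel _ ?_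
      exact KernelFork.IsLimit.ofι' _ _ fun g hg =>
        ⟨kernel.lift φ g (by rw [← Abelian.image.fac φ, ← Category.assoc, hg, zero_comp]), kernel.lift_ι _ _ _⟩
    mono_f := inferInstanceAs (Mono (kernel.ι φ))
    epi_g := inferInstanceAs (Epi (Abelian.factorThruImage φ)) }

theorem coker_seq_shortExact {F G : EtCoh.Ab X} (φ : F ⟶ G) :
    (ShortComplex.mk (Abelian.image.ι φ) (cokernel.π φ) (kernel.condition _)).ShortExact :=
  { exact := ShortComplex.exact_of_f_is_kernel _ (kernelIsKernel _)
    mono_f := inferInstanceAs (Mono (Abelian.image.ι φ))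
    epi_g := inferInstanceAs (Epi (cokernel.π φ)) }

theorem mem_kernel_iff {F G : EtCoh.Ab X} (φ : F ⟶ G) (W : X.Etale) (t : ToType (F.obj.obj (op W))) :
    (∃ s, (kernel.ι φ).hom.app (op W) s = t) ↔ φ.hom.app (op W) t = 0 := by
  constructor
  · rintro ⟨s, rfl⟩
    have h := congrArg (fun k : kernel φ ⟶ G => k.hom.app (op W) s) (kernel.condition φ)
    exact h
  · intro h
    refine (Groth.Agent.EpsLib.sections_exact (ker_seq_shortExact X φ) W).2 t ?_
    refine (Groth.Agent.EpsLib.sections_exact (coker_seq_shortExact X φ) W).1 ?_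
    rw [map_zero]
    exact (congrArg (fun k : F ⟶ G => k.hom.app (op W) t) (Abelian.image.fac φ)).trans h

theorem φmax_app_eq_zero (W : X.Etale) (t : ToType ((EtCoh.Gm X).obj.obj (op W))) :
    (φmax X).hom.app (op W) t = 0 ↔ ∀ x : MPt X, (φGm x.1).hom.app (op W) t = 0 := by
  classical
  haveI : Fintype (MPt X) := Fintype.ofFinite _
  constructor
  · intro h x
    rw [← biproduct.lift_π (fun x : MPt X => φGm x.1) x]
    show (biproduct.π (fun x : MPt X => KGm x.1) x).hom.app (op W) ((φmax X).hom.app (op W) t) = 0
    rw [h, map_zero]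
  · intro h
    let E := sheafToPresheaf X.smallEtaleTopology AddCommGrpCat.{u + 1} ⋙ (evaluation _ _).obj (op W)
    haveI : E.Additive := { }
    have h2 := congrArg (fun k : PGm X ⟶ PGm X => E.map k)
      (IsBilimit.total (biproduct.isBilimit fun x : MPt X => KGm x.1))
    simp only [Functor.map_sum, Functor.map_comp, CategoryTheory.Functor.map_id] at h2
    have h3 := congrArg (fun k : E.obj (PGm X) ⟶ E.obj (PGm X) => k.hom ((φmax X).hom.app (op W) t)) h2
    simp only [AddCommGrpCat.hom_id, AddMonoidHom.id_apply] at h3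
    refine h3.symm.trans ?_
    have hs : ∀ (s : Finset (MPt X)) (f : MPt X → (E.obj (PGm X) ⟶ E.obj (PGm X))) (z : ToType (E.obj (PGm X))),
        (∀ i, (f i).hom z = 0) → (∑ i ∈ s, f i).hom z = 0 := fun s f z hz => by
      induction s using Finset.induction_on with
      | empty => rw [Finset.sum_empty]; rfl
      | insert a s ha ih =>
        rw [Finset.sum_insert ha]
        show (f a).hom z + (∑ i ∈ s, f i).hom z = 0
        rw [hz, ih, add_zero]
    refine hs _ _ _ fun x => ?_
    show (biproduct.ι (fun x : MPt X => KGm x.1) x).hom.app (op W)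
      ((biproduct.π (fun x : MPt X => KGm x.1) x).hom.app (op W) ((φmax X).hom.app (op W) t)) = 0
    have h4 : (biproduct.π (fun x : MPt X => KGm x.1) x).hom.app (op W) ((φmax X).hom.app (op W) t) = 0 :=
      (congrArg (fun k : EtCoh.Gm X ⟶ KGm x.1 => k.hom.app (op W) t)
        (biproduct.lift_π (fun x : MPt X => φGm x.1) x)).trans (h x)
    rw [h4, map_zero]

theorem φGm_app_eq_zero (x : X) (W : X.Etale) (t : ToType ((EtCoh.Gm X).obj.obj (op W))) :
    (φGm x).hom.app (op W) t = 0 ↔
      (pullback.fst W.hom (X.fromSpecResidueField x)).appTop.hom (gmVal X t) = 1 :=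
  ⟨fun h => congrArg (gmVal (Spec (X.residueField x)) (W := (EtCoh.bc (X.fromSpecResidueField x)).obj W)) h,
    fun h => gmVal_injective (Spec (X.residueField x)) (W := (EtCoh.bc (X.fromSpecResidueField x)).obj W) h⟩

variable {X}

theorem isReduced_fibre (x : X) (W : X.Etale) : IsReduced (pullback W.hom (X.fromSpecResidueField x)) := by
  let f : pullback W.hom (X.fromSpecResidueField x) ⟶ Spec (X.residueField x) := pullback.snd _ _
  haveI : AlgebraicGeometry.Etale f := ((EtCoh.bc (X.fromSpecResidueField x)).obj W).prop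
  exact AlgSpLib.isReduced_of_smooth f

theorem exists_max_generization {T : Scheme.{u}} (w : T) :
    ∃ η : T, (∀ y, y ⤳ η → y = η) ∧ η ⤳ w := by
  have hZ : IsGenericPoint (isIrreducible_irreducibleComponent (x := w)).genericPoint (irreducibleComponent w) :=
    (isIrreducible_irreducibleComponent (x := w)).isGenericPoint_genericPoint isClosed_irreducibleComponent
  refine ⟨_, fun y hy => ?_, hZ.specializes mem_irreducibleComponent⟩
  have h : closure ({y} : Set T) = irreducibleComponent w := by
    refine eq_irreducibleComponent isIrreducible_singleton.closure.2 ?_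
    rw [← hZ.def]
    exact closure_minimal (Set.singleton_subset_iff.2 (specializes_iff_mem_closure.1 hy)) isClosed_closure
  exact IsGenericPoint.eq (show IsGenericPoint y (irreducibleComponent w) from h) hZ

theorem isNilpotent_of_fibres {W : X.Etale} (hW : IsAffine W.left) (a : Γ(W.left, ⊤))
    (h : ∀ x : MPt X, (pullback.fst W.hom (X.fromSpecResidueField x.1)).appTop.hom a = 0) : IsNilpotent a := by
  haveI := hW
  haveI : CompactSpace W.left := inferInstance
  rw [Scheme.isNilpotent_iff_basicOpen_eq_bot]
  refine le_bot_iff.1 fun w hw => ?_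
  exfalso
  let f : W.left ⟶ X := W.hom
  haveI : AlgebraicGeometry.Etale f := W.prop
  obtain ⟨η, hη, hηw⟩ := exists_max_generization w
  have hηa : η ∈ W.left.basicOpen a := hηw.mem_open (W.left.basicOpen a).2 hw
  have hmax : DivSeqLib.IsMaxPt (f.base η) := fun y hy => by
    obtain ⟨y', hy', rfl⟩ := Flat.generalizingMap f hy
    rw [hη y' hy']
  obtain ⟨z, hz⟩ := exists_fibre (x := f.base η) η rfl
  let q : pullback W.hom (X.fromSpecResidueField (f.base η)) ⟶ W.left := pullback.fst _ _
  have hu : IsUnit (W.left.presheaf.germ ⊤ (q.base z) trivial a) := by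
    have hq : q.base z ∈ W.left.basicOpen a := by
      rw [show q.base z = η from hz]; exact hηa
    exact (Scheme.mem_basicOpen W.left a _ trivial).1 hq
  have hu' := hu.map (q.stalkMap z).hom
  rw [← germ_appTop q z a, show q.appTop a = 0 from h ⟨f.base η, hmax⟩, map_zero] at hu'
  exact not_isUnit_zero hu'

theorem mem_kernel_φmax_iff {W : X.Etale} (hW : IsAffine W.left) (t : ToType ((EtCoh.Gm X).obj.obj (op W))) :
    (∃ s, (kernel.ι (φmax X)).hom.app (op W) s = t) ↔ gmVal X t - 1 ∈ nilradical Γ(W.left, ⊤) := by
  rw [mem_kernel_iff, φmax_app_eq_zero, mem_nilradical]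
  constructor
  · intro h
    refine isNilpotent_of_fibres hW _ fun x => ?_
    rw [map_sub, map_one, (φGm_app_eq_zero X x.1 W t).1 (h x), sub_self]
  · intro h x
    refine (φGm_app_eq_zero X x.1 W t).2 (sub_eq_zero.1 ?_)
    haveI := isReduced_fibre x.1 W
    rw [← map_one (pullback.fst W.hom (X.fromSpecResidueField x.1)).appTop.hom, ← map_sub]
    exact (h.map _).eq_zero

theorem cechAcyclicA_kernel : CechAcyclicA (kernel (φmax X)) :=
  EtNilUnitLib.cechAcyclicA_of_nilUnits (kernel.ι (φmax X))
    (fun W => (Groth.Agent.EpsLib.sections_exact (ker_seq_shortExact X (φmax X)) W).1)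
    fun _ hW t => mem_kernel_φmax_iff hW t

/-- The kernel has no cohomology above the dimension. -/
theorem subsingleton_H_kernel (d : ℕ) (hdim : topologicalKrullDim X ≤ d) (p : ℕ) (hp : d < p) :
    Subsingleton (EtCoh.H X (kernel (φmax X)) p) := by
  haveI := EtZarLib.zarCont X
  obtain ⟨e⟩ := EtZarLib.nonempty_H_equiv (X := X) p _ cechAcyclicA_kernel
  haveI : Subsingleton (EtZar.H ((EtZar.resZar X).obj (kernel (φmax X))) p) :=
    EtNilUnitLib.subsingleton_H_of_small d hdim _ (fun U => by
      let W := (EtZar.zarToEt X).obj U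
      haveI : Small.{u} (ULift.{u + 1} (Additive (Γ(W.left, ⊤))ˣ)) := small_map Equiv.ulift
      exact small_of_injective (β := ULift.{u + 1} (Additive (Γ(W.left, ⊤))ˣ))
        (f := (kernel.ι (φmax X)).hom.app (op W))
        (Groth.Agent.EpsLib.sections_exact (ker_seq_shortExact X (φmax X)) W).1) p hp
  exact e.toEquiv.subsingleton

end GmTorsLib

end
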