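import Groth.Agent.SkySumLib.MaxMain

/-!
# Surjectivity at maximal points without reducedness
-/

set_option autoImplicit false
set_option linter.style.haveILetI false
set_option linter.unusedSectionVars false
set_option backward.isDefEq.respectTransparency false
set_option backward.isDefEq.respectTransparency.types false
set_option synthInstance.maxHeartbeats 400000
set_option maxHeartbeats 2000000

universe u

open CategoryTheory CategoryTheory.Limits AlgebraicGeometry Opposite
open Groth.Agent.EtShLib MuConstLib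

noncomputable section

namespace GmTorsLib

open SkySumLib

variable {X : Scheme.{u}}

theorem surjective_stk_φGm' [IsNoetherian X] {x : X} (hmax : ∀ y, y ⤳ x → y = x)
    {Ω : Type u} [Field Ω] [IsSepClosed Ω] (ξ : Spec (CommRingCat.of Ω) ⟶ X) (hξ : ξ.base default = x) :
    Function.Surjective ((stk (A := AddCommGrpCat.{u + 1}) ξ).map (φGm x)) := by
  intro p
  obtain ⟨V₀, v₀, t₀, rfl⟩ := exists_germ (A := AddCommGrpCat.{u + 1}) ξ p
  obtain ⟨V, g₀, v, hV, hv⟩ := exists_affine_below' ξ V₀ v₀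
  haveI := hV
  rw [← hv, ← germ_res_apply]
  generalize (KGm x).obj.map g₀.op t₀ = t
  haveI : AlgebraicGeometry.Etale V.hom := V.prop
  -- shrink to a single point in the fibre
  let B : Set V.left := {w | V.hom.base w = x ∧ w ≠ v.pt}
  have hB : B.Finite := (finite_fibre (V := V) x).subset fun w hw => hw.1
  let O₁ : V.left.Opens := ⟨(⋃ w ∈ B, closure {w})ᶜ, isOpen_compl_iff.2 (hB.isClosed_biUnion fun _ _ => isClosed_closure)⟩
  have hvO : v.pt ∈ O₁ := fun h => by
    obtain ⟨w, hwB, hw⟩ := Set.mem_iUnion₂.1 h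
    exact hwB.2 (isMax_over hmax v.pt (fib_pt_over hξ v) w (specializes_iff_mem_closure.2 hw))
  have hO₁ : ∀ w ∈ O₁, V.hom.base w = x → w = v.pt := fun w hw hwx => by
    by_contra hne
    exact hw (Set.mem_iUnion₂.2 ⟨w, ⟨hwx, hne⟩, subset_closure rfl⟩)
  let q : pullback V.hom (X.fromSpecResidueField x) ⟶ V.left := pullback.fst V.hom (X.fromSpecResidueField x)
  haveI := isPreimmersion_fst x V
  obtain ⟨z, hz⟩ := exists_fibre v.pt (fib_pt_over hξ v)
  let τ : Γ(pullback V.hom (X.fromSpecResidueField x), ⊤) :=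
    gmVal (Spec (X.residueField x)) (W := (EtCoh.bc (X.fromSpecResidueField x)).obj V) t
  have hτu : IsUnit τ :=
    ⟨(show ULift.{u + 1} (Additive (Γ(pullback V.hom (X.fromSpecResidueField x), ⊤))ˣ) from t).down.toMul, rfl⟩
  obtain ⟨u, hu⟩ := q.stalkMap_surjective z ((pullback V.hom (X.fromSpecResidueField x)).presheaf.germ ⊤ z trivial τ)
  have huu : IsUnit u := by
    haveI : IsLocalHom (q.stalkMap z).hom := inferInstance
    refine isUnit_of_map_unit (q.stalkMap z).hom u ?_
    rw [hu]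
    exact hτu.map _
  obtain ⟨O₂, hzO₂, a, rfl⟩ := TopCat.Presheaf.exists_germ_eq V.left.presheaf u
  have hzb : q.base z ∈ V.left.basicOpen a := (Scheme.mem_basicOpen V.left a _ hzO₂).2 huu
  let O : V.left.Opens := V.left.basicOpen a ⊓ O₁
  have hvO' : v.pt ∈ O := ⟨hz ▸ hzb, hvO⟩
  let W := openSub V O
  let j := openIncl V O
  have hle : ⊤ ≤ O.ι ⁻¹ᵁ O₂ := fun w _ => V.left.basicOpen_le a w.2.1
  let b : Γ(W.left, ⊤) := O.ι.appLE O₂ ⊤ hle a
  have hb : IsUnit b := by
    have h1 := RingedSpace.isUnit_res_basicOpen V.left.toLocallyRingedSpace.toRingedSpace a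
    have hle' : ⊤ ≤ O.ι ⁻¹ᵁ V.left.basicOpen a := fun w _ => w.2.1
    have h2 := h1.map (O.ι.appLE (V.left.basicOpen a) ⊤ hle').hom
    have h3 : (O.ι.appLE (V.left.basicOpen a) ⊤ hle') (V.left.presheaf.map (homOfLE (V.left.basicOpen_le a)).op a) = b :=
      congrArg (fun f : Γ(V.left, O₂) ⟶ Γ(W.left, ⊤) => f a) (Scheme.Hom.map_appLE O.ι hle' (homOfLE (V.left.basicOpen_le a)).op)
    exact h3 ▸ h2
  let s : ToType ((EtCoh.Gm X).obj.obj (op W)) := ULift.up (Additive.ofMul hb.unit)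
  obtain ⟨l, hl⟩ : ∃ l : Spec (CommRingCat.of Ω) ⟶ O.toScheme, l ≫ O.ι = v.hom :=
    ⟨IsOpenImmersion.lift O.ι v.hom (by
      rintro _ ⟨c, rfl⟩
      rw [Subsingleton.elim c default, Scheme.Opens.range_ι]
      exact hvO'), IsOpenImmersion.lift_fac _ _ _⟩
  let w' : Fib ξ W := Fib.mk l (by
    show l ≫ O.ι ≫ V.hom = ξ
    rw [← Category.assoc, hl]
    exact v.w)
  have hw' : w'.map j = v := Fib.ext hl
  refine ⟨germ ξ (EtCoh.Gm X) W w' s, ?_⟩
  rw [germ_natural_apply, ← hw', ← germ_res_apply]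
  refine congrArg (germ ξ (KGm x) W w') (gmVal_injective (Spec (X.residueField x))
    (W := (EtCoh.bc (X.fromSpecResidueField x)).obj W) ?_)
  let k : pullback W.hom (X.fromSpecResidueField x) ⟶ pullback V.hom (X.fromSpecResidueField x) :=
    ((EtCoh.bc (X.fromSpecResidueField x)).map j).left
  let q₂ : pullback W.hom (X.fromSpecResidueField x) ⟶ O.toScheme := pullback.fst W.hom (X.fromSpecResidueField x)
  have hk : k ≫ q = q₂ ≫ O.ι := (EtCoh.isPullback_bc_map (X.fromSpecResidueField x) j).w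
  show q₂.appTop b = k.appTop τ
  refine TopCat.Presheaf.section_ext (pullback W.hom (X.fromSpecResidueField x)).sheaf ⊤ _ _ fun z₂ _ => ?_
  have hkz : k.base z₂ = z := by
    refine q.isEmbedding.injective ?_
    rw [show q.base z = v.pt from hz]
    have e1 : q.base (k.base z₂) = O.ι.base (q₂.base z₂) := congrArg (fun f => f.base z₂) hk
    rw [e1]
    exact hO₁ _ (q₂.base z₂).2.2 (fibre_over z₂)
  subst hkz
  have hle₂ : ⊤ ≤ (k ≫ q) ⁻¹ᵁ O₂ := fun c _ => by
    rw [hk]
    exact hle trivial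
  have e2 : q₂.appTop b = (k ≫ q).appLE O₂ ⊤ hle₂ a := by
    have e3 : q₂.appTop b = (q₂ ≫ O.ι).appLE O₂ ⊤ (fun c _ => hle trivial) a := by
      rw [← Scheme.Hom.appLE_comp_appLE q₂ O.ι O₂ ⊤ ⊤ hle (fun c _ => trivial)]
      show _ = q₂.appLE ⊤ ⊤ _ b
      rw [Scheme.Hom.appTop, Scheme.Hom.app_eq_appLE]
      rfl
    rw [e3]
    simp only [hk]
  show (pullback W.hom (X.fromSpecResidueField x)).presheaf.germ ⊤ z₂ trivial (q₂.appTop b) =
    (pullback W.hom (X.fromSpecResidueField x)).presheaf.germ ⊤ z₂ trivial (k.appTop τ)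
  rw [e2, germ_appLE, germ_appTop, Scheme.Hom.stalkMap_comp, ConcreteCategory.comp_apply]
  exact congrArg (k.stalkMap z₂) hu

end GmTorsLib

end
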