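import Groth.Agent.GmTorsLib.Point
import Groth.Agent.GmTorsLib.Surj
import Groth.Agent.GmTorsLib.Kernel
import Groth.Agent.CdPrimeLib.Max

/-!
# Torsion in `H^i(X, G_m)` in dimension one
-/

set_option autoImplicit false
set_option linter.unusedSectionVars false
set_option linter.style.haveILetI false
set_option backward.isDefEq.respectTransparency false
set_option backward.isDefEq.respectTransparency.types false
set_option synthInstance.maxHeartbeats 400000
set_option maxHeartbeats 1000000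

universe u

open CategoryTheory CategoryTheory.Limits CategoryTheory.Abelian AlgebraicGeometry Opposite
open Groth.Agent.EtShLib SkySumLib

noncomputable section

namespace GmTorsLib

variable {X : Scheme.{u}} [IsNoetherian X]

theorem suppClosed_coker (hdim : topologicalKrullDim X ≤ 1) : SuppClosed (cokernel (φmax X)) := by
  classical
  refine suppClosed_of_isZero_at_max hdim _ fun Ω _ _ ξ h => ?_
  haveI : Fintype (MPt X) := Fintype.ofFinite _
  have hmax : ∀ y : X, y ⤳ ξ.base default → y = ξ.base default := h _ ⟨default, rfl⟩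
  let x₀ : MPt X := ⟨ξ.base default, hmax⟩
  let S := stk (A := AddCommGrpCat.{u + 1}) ξ
  let π := biproduct.π (fun x : MPt X => KGm x.1) x₀
  let ι := biproduct.ι (fun x : MPt X => KGm x.1) x₀
  haveI : IsIso (S.map π) := by
    refine ⟨S.map ι, ?_, ?_⟩
    · have h1 : ∀ y : MPt X, y ≠ x₀ →
          S.map (biproduct.π (fun x : MPt X => KGm x.1) y ≫ biproduct.ι (fun x : MPt X => KGm x.1) y) = 0 :=
        fun y hy => by
          have h0 : IsZero (S.obj (KGm y.1)) := isZero_stk_KGm ξ fun h => hy (Subtype.ext (hmax _ h))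
          rw [Functor.map_comp, h0.eq_of_tgt (S.map _) 0, zero_comp]
      have h2 := congrArg (fun t => S.map t) (IsBilimit.total (biproduct.isBilimit fun x : MPt X => KGm x.1))
      simp only [Functor.map_sum, CategoryTheory.Functor.map_id] at h2
      rw [Finset.sum_eq_single x₀ (fun y _ hy => h1 y hy) (fun h => absurd (Finset.mem_univ _) h),
        Functor.map_comp] at h2
      exact h2
    · rw [← Functor.map_comp, biproduct.ι_π_self, CategoryTheory.Functor.map_id]
  haveI : Epi (S.map (φmax X) ≫ S.map π) := by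
    rw [← Functor.map_comp, biproduct.lift_π]
    exact (AddCommGrpCat.epi_iff_surjective _).2 (surjective_stk_φGm' hmax ξ rfl)
  haveI : Epi (S.map (φmax X)) := by
    rw [show S.map (φmax X) = (S.map (φmax X) ≫ S.map π) ≫ inv (S.map π) by
      rw [Category.assoc, IsIso.hom_inv_id, Category.comp_id]]
    exact epi_comp _ _
  exact IsZero.of_iso (isZero_cokernel_of_epi _) (PreservesCokernel.iso (stk (A := AddCommGrpCat.{u + 1}) ξ) (φmax X))

theorem natCast_ne_zero {l : ℕ} (hinv : Dix.InvertibleOn X l) (x : X) : (l : X.residueField x) ≠ 0 :=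
  hinv x

/-- `ℓ`-torsion in `H²(X, G_m)` vanishes. -/
theorem eq_zero_H2_Gm (hdim : topologicalKrullDim X ≤ 1) (l : ℕ) (hinv : Dix.InvertibleOn X l)
    (hcd : ∀ x : MPt X, Dix.CohDimLEAt (Spec (X.residueField x.1)) l 1)
    (hcl : ∀ x : Pt X, IsSepClosed (X.residueField x.1))
    (z : EtCoh.H X (EtCoh.Gm X) 2) (hz : l • z = 0) : z = 0 := by
  classical
  haveI : Fintype (MPt X) := Fintype.ofFinite _
  have hw : ((EtCoh.HF X 2).map (φmax X)) z = 0 := by
    have hlw : l • ((EtCoh.HF X 2).map (φmax X)) z = 0 := by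
      rw [← map_nsmul]
      exact (congrArg _ hz).trans (map_zero _)
    rw [comp_eq_sum ((EtCoh.HF X 2).map (φmax X) z)]
    refine Finset.sum_eq_zero fun x _ => ?_
    haveI : QuasiCompact (X.fromSpecResidueField x.1) := quasiCompact_of_compactSpace _
    have h0 : ((EtCoh.HF X 2).map (biproduct.π (fun x : MPt X => KGm x.1) x)) ((EtCoh.HF X 2).map (φmax X) z) = 0 :=
      eq_zero_H2_push_Gm (k := X.residueField x.1) (X.fromSpecResidueField x.1) l (natCast_ne_zero hinv x.1) (hcd x) _
        (let g := ((EtCoh.HF X 2).map (biproduct.π (fun x : MPt X => KGm x.1) x)).hom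
        (map_nsmul g l _).symm.trans ((congrArg g hlw).trans (map_zero g)))
    rw [h0, map_zero]
  have hS1 := ker_seq_shortExact X (φmax X)
  have hS2 := coker_seq_shortExact X (φmax X)
  let g1 : Ext.{u + 1} ((EtCoh.const X ℤ)) (Abelian.image (φmax X)) 2 :=
    (z : Ext.{u + 1} (EtCoh.const X ℤ) (EtCoh.Gm X) 2).comp (Ext.mk₀ (Abelian.factorThruImage (φmax X))) (add_zero 2)
  have hg : g1.comp (Ext.mk₀ (Abelian.image.ι (φmax X))) (add_zero 2) = 0 := by
    refine Eq.trans ?_ hw
    show _ = Ext.comp z (Ext.mk₀ (φmax X)) (add_zero 2)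
    rw [Ext.comp_assoc_of_third_deg_zero, Ext.mk₀_comp_mk₀, Abelian.image.fac]
  obtain ⟨w, hw'⟩ := Ext.covariant_sequence_exact₁ _ hS2 g1 hg (n₀ := 1) rfl
  have hC := SkySumLib.subsingleton_H (suppClosed_coker (X := X) hdim) hcl 1 one_pos
  rw [show w = 0 from hC.elim w 0, Ext.zero_comp] at hw'
  obtain ⟨v, hv⟩ := Ext.covariant_sequence_exact₂ _ hS1 (z : Ext.{u + 1} (EtCoh.const X ℤ) (EtCoh.Gm X) 2) hw'.symm
  have hK := subsingleton_H_kernel (X := X) 1 hdim 2 one_lt_two
  exact hv.symm.trans (by rw [show v = 0 from hK.elim v 0, Ext.zero_comp])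

/-- `ℓ`-torsion in `H^i(X, G_m)` vanishes for `i ≥ 3`. -/
theorem eq_zero_H_Gm_high (hdim : topologicalKrullDim X ≤ 1) (l : ℕ) (hl : l.Prime) (hinv : Dix.InvertibleOn X l)
    (hcd : ∀ x : X, closure {x} ∈ irreducibleComponents (X : Type u) → Dix.CohDimLEAt (Spec (X.residueField x)) l 1)
    (hcl : ∀ x : X, IsClosed ({x} : Set X) → IsSepClosed (X.residueField x))
    (i : ℕ) (hi : 2 < i) (z : EtCoh.H X (EtCoh.Gm X) i) (hz : l • z = 0) : z = 0 := by
  have hμ := CdPrimeLib.subsingleton_H_mu hdim l hl.pos (fun x hx l' hl' hdvd => by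
    rw [(Nat.prime_dvd_prime_iff_eq hl' hl).1 hdvd]; exact hcd x hx) hcl i hi
  obtain ⟨w, hw⟩ := Ext.covariant_sequence_exact₂ _ (EtKummerLib.kummer_shortExact hinv)
    (z : Ext.{u + 1} _ (EtCoh.Gm X) i) (by
      show Ext.comp _ (Ext.mk₀ (l • 𝟙 (EtCoh.Gm X))) (add_zero i) = 0
      rw [mk₀_nsmul, comp_nsmul_right, Ext.comp_mk₀_id]
      exact hz)
  rw [← hw, show w = 0 from hμ.elim w 0, Ext.zero_comp]

theorem eq_zero_H_Gm (hdim : topologicalKrullDim X ≤ 1) (l : ℕ) (hl : l.Prime) (hinv : Dix.InvertibleOn X l)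
    (hcd : ∀ x : X, closure {x} ∈ irreducibleComponents (X : Type u) → Dix.CohDimLEAt (Spec (X.residueField x)) l 1)
    (hcl : ∀ x : X, IsClosed ({x} : Set X) → IsSepClosed (X.residueField x))
    (i : ℕ) (hi : 2 ≤ i) (z : EtCoh.H X (EtCoh.Gm X) i) (k : ℕ) (hz : l ^ k • z = 0) : z = 0 := by
  induction k generalizing z with
  | zero => rwa [pow_zero, one_smul] at hz
  | succ k ih =>
    refine ih z ?_
    have h : l • (l ^ k • z) = 0 := by rw [← mul_smul, ← pow_succ']; exact hz
    rcases Nat.lt_or_ge 2 i with hi' | hi'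
    · exact eq_zero_H_Gm_high hdim l hl hinv hcd hcl i hi' _ h
    · obtain rfl : i = 2 := le_antisymm hi' hi
      exact eq_zero_H2_Gm hdim l hinv (fun x => hcd x.1 (CdPrimeLib.closure_mem_irreducibleComponents x.2))
        (fun x => hcl x.1 x.2) _ h

end GmTorsLib

end
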