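import Groth.Agent.S3243
import Groth.Agent.CdCurveLib.PushPt
import Groth.Agent.EtKummerLib.Hilbert90
import Groth.Agent.EtKummerLib.Basic

/-!
# Torsion in `H²(X, x_* G_m)`
-/

set_option autoImplicit false
set_option linter.style.haveILetI false
set_option linter.unusedSectionVars false
set_option backward.isDefEq.respectTransparency false
set_option backward.isDefEq.respectTransparency.types false
set_option synthInstance.maxHeartbeats 400000
set_option maxHeartbeats 1000000

universe u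

open CategoryTheory CategoryTheory.Limits CategoryTheory.Abelian AlgebraicGeometry Opposite
open Groth.Agent.EtShLib

noncomputable section

namespace GmTorsLib

theorem comp_nsmul_left {C : Type*} [Category C] [Abelian C] [HasExt.{u + 1} C] {A B D : C} {a b c : ℕ}
    (x : Ext.{u + 1} A B a) (y : Ext.{u + 1} B D b) (h : a + b = c) (l : ℕ) :
    (l • x).comp y h = l • x.comp y h :=
  map_nsmul (y.postcomp A h) l x

theorem comp_nsmul_right {C : Type*} [Category C] [Abelian C] [HasExt.{u + 1} C] {A B D : C} {a b c : ℕ}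
    (x : Ext.{u + 1} A B a) (y : Ext.{u + 1} B D b) (h : a + b = c) (l : ℕ) :
    x.comp (l • y) h = l • x.comp y h :=
  map_nsmul (AddMonoidHom.mk' (fun w => x.comp w h) fun s t => Ext.comp_add _ _ _ _) l y

theorem mk₀_nsmul {C : Type*} [Category C] [Abelian C] [HasExt.{u + 1} C] {A B : C} (φ : A ⟶ B) (l : ℕ) :
    Ext.mk₀ (l • φ) = l • Ext.mk₀ φ :=
  map_nsmul (AddMonoidHom.mk' (fun w : A ⟶ B => Ext.mk₀ w) fun s t => Ext.mk₀_add _ _) l φ

/-- `ℓ`-torsion in the first cohomology of a direct image comes from upstairs. -/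
theorem eq_zero_H1_push {k : Type u} [Field k] {X : Scheme.{u}} (f : Spec (CommRingCat.of k) ⟶ X)
    (F : EtCoh.Ab (Spec (CommRingCat.of k))) (l : ℕ)
    (h : ∀ y : EtCoh.H (Spec (CommRingCat.of k)) F 1, l • y = 0 → y = 0)
    (x : EtCoh.H X ((EtCoh.push f).obj F) 1) (hx : l • x = 0) : x = 0 := by
  haveI : PreservesLimitsOfSize.{0, 0} (EtCoh.push f) := (EtCoh.pullPushAdj f).rightAdjoint_preservesLimits
  haveI : PreservesFiniteLimits (EtCoh.push f) := PreservesLimitsOfSize.preservesFiniteLimits _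
  haveI : (EtCoh.push f).Additive := { }
  haveI : (EtCoh.pull f).PreservesMonomorphisms := inferInstance
  haveI : (EtCoh.pull f).Additive := (EtCoh.pullPushAdj f).left_adjoint_additive
  let ip := (EnoughInjectives.presentation F).some
  let S := ShortComplex.mk ip.f (cokernel.π ip.f) (cokernel.condition _)
  have hS : S.ShortExact := { exact := ShortComplex.exact_of_g_is_cokernel _ (cokernelIsCokernel _) }
  haveI : Injective S.X₂ := ip.injective
  let G := EtCoh.push f
  let S₁ := ShortComplex.mk (G.map S.f) (cokernel.π (G.map S.f)) (cokernel.condition _)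
  haveI : Mono (G.map S.f) := G.map_mono _
  have h₁ : S₁.ShortExact := { exact := ShortComplex.exact_of_g_is_cokernel _ (cokernelIsCokernel _) }
  haveI : Injective S₁.X₂ := Injective.injective_of_adjoint (EtCoh.pullPushAdj f) S.X₂
  let j : S₁.X₃ ⟶ G.obj S.X₃ := cokernel.desc (G.map S.f) (G.map S.g) (by rw [← G.map_comp, S.zero, G.map_zero])
  haveI : Mono j := (S.map G).exact_iff_mono_cokernel_desc.1 (hS.exact.map_of_mono_of_preservesKernel G inferInstance inferInstance)
  obtain ⟨d, rfl⟩ := Ext.covariant_sequence_exact₁ _ h₁ (n₁ := 0 + 1) x (Ext.eq_zero_of_injective _) (n₀ := 0) rfl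
  obtain ⟨d, rfl⟩ := (Ext.mk₀_bijective _ _).2 d
  let adj := EtCoh.pullPushAdj f
  let d' := (adj.homEquiv _ _).symm (d ≫ j)
  have hj : ∀ e, adj.homEquiv (EtCoh.const X ℤ) S.X₂ e ≫ S₁.g ≫ j = adj.homEquiv _ _ (e ≫ S.g) := fun e => by
    show _ ≫ cokernel.π (G.map S.f) ≫ cokernel.desc _ _ _ = _
    rw [cokernel.π_desc, ← Adjunction.homEquiv_naturality_right]
  have hl : l • ((Ext.mk₀ d').comp hS.extClass (zero_add 1)) = 0 := by
    rw [← comp_nsmul_left _ _ (zero_add 1), ← mk₀_nsmul]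
    have hld : (Ext.mk₀ (l • d)).comp h₁.extClass (zero_add 1) = 0 := by
      rw [mk₀_nsmul, comp_nsmul_left]
      exact hx
    obtain ⟨w, hw⟩ := Ext.covariant_sequence_exact₃ _ h₁ _ (n₁ := 1) (zero_add 1) hld
    obtain ⟨e0, rfl⟩ := (Ext.mk₀_bijective _ S₁.X₂).2 w
    rw [Ext.mk₀_comp_mk₀] at hw
    have he : e0 ≫ S₁.g = l • d := (Ext.mk₀_bijective _ _).1 hw
    obtain ⟨e, rfl⟩ := (adj.homEquiv _ _).surjective e0
    have hd' : l • d' = e ≫ S.g := by
      apply (adj.homEquiv _ _).injective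
      rw [← hj, ← Category.assoc, he, Preadditive.nsmul_comp]
      have hadd : ∀ n : ℕ, adj.homEquiv _ _ (n • d') = n • (d ≫ j) := fun n => by
        rw [Adjunction.homEquiv_unit, Functor.map_nsmul, Preadditive.comp_nsmul, ← Adjunction.homEquiv_unit,
          Equiv.apply_symm_apply]
      exact hadd l
    rw [hd', ← Ext.mk₀_comp_mk₀, Ext.comp_assoc_of_second_deg_zero, hS.comp_extClass, Ext.comp_zero]
  have h0 : (Ext.mk₀ d').comp hS.extClass (zero_add 1) = 0 := by
    have h := h ((Ext.mk₀ (EtCore.pullConst f ℤ).inv).comp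
      ((Ext.mk₀ d').comp hS.extClass (zero_add 1)) (zero_add 1)) (by
        rw [← comp_nsmul_right, hl, Ext.comp_zero])
    have h' := congrArg (fun w => (Ext.mk₀ (EtCore.pullConst f ℤ).hom).comp w (zero_add 1)) h
    rw [Ext.mk₀_comp_mk₀_assoc, Iso.hom_inv_id, Ext.mk₀_id_comp, Ext.comp_zero] at h'
    exact h'
  obtain ⟨w, hw⟩ := Ext.covariant_sequence_exact₃ _ hS _ (n₁ := 1) (zero_add 1) h0
  obtain ⟨e, rfl⟩ := (Ext.mk₀_bijective _ S.X₂).2 w
  rw [Ext.mk₀_comp_mk₀] at hw
  have he : e ≫ S.g = d' := (Ext.mk₀_bijective _ _).1 hw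
  have hd : d = adj.homEquiv _ _ e ≫ S₁.g := by
    rw [← cancel_mono j, Category.assoc, hj, he, Equiv.apply_symm_apply]
  rw [hd, ← Ext.mk₀_comp_mk₀, Ext.comp_assoc_of_second_deg_zero, h₁.comp_extClass, Ext.comp_zero]

/-- `ℓ`-torsion in `H²(X, x_* G_m)` vanishes when `cd_ℓ κ(x) ≤ 1`. -/
theorem eq_zero_H2_push_Gm {k : Type u} [Field k] {X : Scheme.{u}} (f : Spec (CommRingCat.of k) ⟶ X)
    [QuasiCompact f] [QuasiSeparated f] (l : ℕ) (hl : (l : k) ≠ 0)
    (hk : Dix.CohDimLEAt (Spec (CommRingCat.of k)) l 1)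
    (x : EtCoh.H X ((EtCoh.push f).obj (EtCoh.Gm (Spec (CommRingCat.of k)))) 2) (hx : l • x = 0) : x = 0 := by
  haveI : PreservesLimitsOfSize.{0, 0} (EtCoh.push f) := (EtCoh.pullPushAdj f).rightAdjoint_preservesLimits
  haveI : PreservesFiniteLimits (EtCoh.push f) := PreservesLimitsOfSize.preservesFiniteLimits _
  haveI : (EtCoh.push f).Additive := { }
  haveI : (EtCoh.pull f).PreservesMonomorphisms := inferInstance
  let K := Spec (CommRingCat.of k)
  let ip := (EnoughInjectives.presentation (EtCoh.Gm K)).some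
  let S := ShortComplex.mk ip.f (cokernel.π ip.f) (cokernel.condition _)
  have hS : S.ShortExact := { exact := ShortComplex.exact_of_g_is_cokernel _ (cokernelIsCokernel _) }
  haveI : Injective S.X₂ := ip.injective
  have hG : (S.map (EtCoh.push f)).ShortExact := Groth.Agent.RDerLib.map_shortExact hS
    ((Groth.Agent.RDerLib.epi_map_g_iff _).1 (Groth.Agent.RDerLib.epi_map_g hS 0
      (EtBrLib.isZero_Rpush_Gm f 0 fun L _ _ _ _ => EtKummerLib.subsingleton_H1_Gm L)))
  haveI : Injective (S.map (EtCoh.push f)).X₂ := Injective.injective_of_adjoint (EtCoh.pullPushAdj f) S.X₂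
  obtain ⟨s, hs⟩ := Ext.covariant_sequence_exact₁ _ hG (x : Ext.{u + 1} _ _ 2) (Ext.eq_zero_of_injective _) (n₀ := 1) rfl
  have hs0 : l • s = 0 := by
    have h1 : (l • s).comp hG.extClass rfl = 0 := by rw [comp_nsmul_left, hs]; exact hx
    obtain ⟨t, ht⟩ := Ext.covariant_sequence_exact₃ _ hG (l • s) rfl h1
    rw [← ht, Ext.eq_zero_of_injective t, Ext.zero_comp]
  have hinv : Dix.InvertibleOn K l := fun p => by
    intro h0
    refine hl ?_
    let q := (Scheme.ΓSpecIso (CommRingCat.of k)).inv ≫ K.presheaf.germ ⊤ p trivial ≫ K.residue p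
    have h' : q.hom (l : k) = 0 := by rw [map_natCast]; exact h0
    exact (map_eq_zero q.hom).1 h'
  have hy : ∀ y : EtCoh.H K S.X₃ 1, l • y = 0 → y = 0 := fun y hy => by
    have h2 : l • (Ext.comp y hS.extClass rfl : EtCoh.H K (EtCoh.Gm K) 2) = 0 := by
      show l • (Ext.comp y hS.extClass rfl) = 0
      rw [← comp_nsmul_left, hy, Ext.zero_comp]
    obtain ⟨w, hw⟩ := Ext.covariant_sequence_exact₂ _ (EtKummerLib.kummer_shortExact hinv)
      (Ext.comp y hS.extClass rfl : Ext.{u + 1} _ (EtCoh.Gm K) 2) (by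
        show Ext.comp _ (Ext.mk₀ (l • 𝟙 (EtCoh.Gm K))) (add_zero 2) = 0
        rw [mk₀_nsmul, comp_nsmul_right, Ext.comp_mk₀_id]
        exact h2)
    have hμ : Subsingleton (EtCoh.H K (EtCoh.mu K l) 2) := hk _ (EtKummerLib.isPrimaryTorsion_of_nsmul_id l 1 (by
      rw [pow_one]; exact EtKummerLib.nsmul_id_kernel (EtCoh.Gm K) l)) 2 (by norm_num)
    have h0 : Ext.comp y hS.extClass rfl = (0 : Ext.{u + 1} _ (EtCoh.Gm K) 2) := by
      rw [← hw, show w = 0 from hμ.elim w 0, Ext.zero_comp]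
    obtain ⟨t, ht⟩ := Ext.covariant_sequence_exact₃ _ hS y rfl h0
    rw [← ht, Ext.eq_zero_of_injective t, Ext.zero_comp]
  rw [← hs, show s = 0 from eq_zero_H1_push f S.X₃ l hy s hs0, Ext.zero_comp]

end GmTorsLib
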